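import Groth.Prelude.Def_ArtFun
import Mathlib

/-!
# Endomorphisms of deformations of a module with scalar endomorphisms
-/

universe u v w w'

noncomputable section

namespace GrothLib.DefMod26

open TensorProduct Function IsLocalRing

theorem one_tmul_eq_zero_iff {R : Type u} [CommRing R] {M : Type w} [AddCommGroup M] [Module R M]
    (I : Ideal R) (x : M) :
    (1 : R ⧸ I) ⊗ₜ[R] x = 0 ↔ x ∈ I • (⊤ : Submodule R M) := by
  have h := TensorProduct.quotTensorEquivQuotSMul_mk_tmul I (1 : R) x
  rw [one_smul, map_one] at h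
  rw [← (TensorProduct.quotTensorEquivQuotSMul M I).map_eq_zero_iff, h, Submodule.Quotient.mk_eq_zero]

theorem mem_colon_smul_top {C : Type u} [CommRing C] {M : Type w} [AddCommGroup M] [Module C M] [Module.Flat C M]
    (J : Ideal C) (s : C) {x : M} (h : s • x ∈ J • (⊤ : Submodule C M)) :
    x ∈ (Submodule.comap (LinearMap.mulLeft C s) J : Ideal C) • (⊤ : Submodule C M) := by
  let K : Ideal C := Submodule.comap (LinearMap.mulLeft C s) J
  let φ : (C ⧸ K) →ₗ[C] C ⧸ J := Submodule.mapQ K J (LinearMap.mulLeft C s) le_rfl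
  have hφ : Injective φ := by
    rw [injective_iff_map_eq_zero]
    intro q hq
    obtain ⟨c, rfl⟩ := Submodule.Quotient.mk_surjective _ q
    have : s * c ∈ J := (Submodule.Quotient.mk_eq_zero J).1 hq
    exact (Submodule.Quotient.mk_eq_zero K).2 this
  have hinj : Injective (φ.rTensor M) := Module.Flat.rTensor_preserves_injective_linearMap φ hφ
  rw [← one_tmul_eq_zero_iff] at h ⊢
  refine hinj ?_
  rw [map_zero, LinearMap.rTensor_tmul]
  have e : φ (1 : C ⧸ K) = s • (1 : C ⧸ J) := by
    show Submodule.mapQ K J (LinearMap.mulLeft C s) le_rfl (Submodule.Quotient.mk 1) = _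
    rw [Submodule.mapQ_apply]
    simp [Algebra.smul_def]
  rw [e, TensorProduct.smul_tmul]
  exact h

variable {K : Type u} [Field K] {D : Type v} [Ring D]
  {E : Type w} [AddCommGroup E] [Module K E] [Module D E] [Nontrivial E]
  (hE : ∀ ψ : E →ₗ[D] E, ∃ c : K, ∀ y : E, ψ y = c • y)
  (R : ArtFun.Art K K)
  {F : Type w'} [AddCommGroup F] [Module R F] [Module D F]
  [SMulCommClass R D F] [Module.Flat R F]
  (θ : F →ₗ[D] E) (hθ : ∀ (r : R) (x : F), θ (r • x) = R.res r • θ x)
  (hsurj : Surjective θ)
  (hker : ∀ x : F, θ x = 0 ↔ x ∈ maximalIdeal R • (⊤ : Submodule R F))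

include hsurj hker

omit hθ in
theorem eq_zero_of_smul_eq_zero (r : R) (h : ∀ x : F, r • x = 0) : r = 0 := by
  by_contra hr
  obtain ⟨y, hy⟩ := exists_ne (0 : E)
  obtain ⟨x, rfl⟩ := hsurj y
  refine hy ((hker x).2 (Submodule.smul_mono (fun a ha => ?_) le_rfl
    (mem_colon_smul_top (⊥ : Ideal R) r (by rw [h x]; exact Submodule.zero_mem _))))
  have ha' : r * a = 0 := ha
  by_contra hu
  exact hr ((notMem_maximalIdeal.1 hu).mul_left_eq_zero.1 ha')

include hE hθ

theorem exists_smul_eq (φ : F →ₗ[R] F) (hφ : ∀ (d : D) (x : F), φ (d • x) = d • φ x) :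
    ∃ r : R, ∀ x : F, φ x = r • x := by
  haveI : SMulCommClass D R F := SMulCommClass.symm _ _ _
  suffices H : ∀ J : Ideal R, (∃ r : R, ∀ x, φ x - r • x ∈ J • (⊤ : Submodule R F)) →
      ∃ r : R, ∀ x, φ x = r • x from H ⊤ ⟨0, fun x => by rw [Submodule.top_smul]; trivial⟩
  intro J
  induction J using WellFoundedLT.induction with
  | ind J ih =>
    rintro ⟨r, hr⟩
    by_cases hJ : J = ⊥
    · refine ⟨r, fun x => ?_⟩
      have := hr x
      rwa [hJ, Submodule.bot_smul, Submodule.mem_bot, sub_eq_zero] at this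
    obtain ⟨J', hJ', hmax⟩ := (wellFounded_gt (α := Ideal R)).has_min {I : Ideal R | I < J}
      ⟨⊥, bot_lt_iff_ne_bot.2 hJ⟩
    have hJ'' : J' < J := hJ'
    have hmax' : ∀ I : Ideal R, I < J → J' ≤ I → I = J' := fun I h1 h2 => by
      by_contra h
      exact hmax I h1 (lt_of_le_of_ne h2 (Ne.symm h))
    obtain ⟨t, htJ, htJ'⟩ := SetLike.exists_of_lt hJ''
    have hm : maximalIdeal R * J ≤ J' := by
      by_contra h
      have h1 : J' ⊔ maximalIdeal R * J = J := by
        by_contra h2
        exact h (sup_eq_left.1 (hmax' _ (lt_of_le_of_ne (sup_le hJ''.le Ideal.mul_le_right) h2) le_sup_left))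
      exact hJ''.not_ge (Submodule.le_of_le_smul_of_le_jacobson_bot (IsNoetherian.noetherian J)
        (maximalIdeal_le_jacobson _) (h1.ge.trans (sup_le_sup_left (by rw [smul_eq_mul]) _)))
    have hJt : J = J' ⊔ Ideal.span {t} := by
      by_contra h
      have hle : J' ⊔ Ideal.span {t} ≤ J := sup_le hJ''.le (by rwa [Ideal.span_le, Set.singleton_subset_iff])
      exact htJ' (sup_eq_left.1 (hmax' _ (lt_of_le_of_ne hle (Ne.symm h)) le_sup_left)
        (Ideal.mem_span_singleton_self t))
    have hex : ∀ x, ∃ y, φ x - r • x - t • y ∈ J' • (⊤ : Submodule R F) := fun x => by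
      have h := hr x
      rw [hJt, Submodule.sup_smul] at h
      obtain ⟨a, ha, b, hb, hab⟩ := Submodule.mem_sup.1 h
      obtain ⟨y, rfl⟩ : ∃ y, t • y = b := Submodule.smul_induction_on hb
        (fun c hc z _ => by
          obtain ⟨c', rfl⟩ := Ideal.mem_span_singleton'.1 hc
          exact ⟨c' • z, by rw [← mul_smul, mul_comm]⟩)
        (fun u v ⟨u', hu⟩ ⟨v', hv⟩ => ⟨u' + v', by rw [smul_add, hu, hv]⟩)
      exact ⟨y, by rw [← hab, add_sub_cancel_right]; exact ha⟩
    choose g hg using hex
    have hcolon : ∀ y : F, t • y ∈ J' • (⊤ : Submodule R F) → θ y = 0 := fun y hy => (hker y).2 <| by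
      refine Submodule.smul_mono (fun a ha => ?_) le_rfl (mem_colon_smul_top J' t hy)
      by_contra hu
      exact htJ' ((Ideal.mul_unit_mem_iff_mem J' (notMem_maximalIdeal.1 hu)).1 (ha : t * a ∈ J'))
    have hD : ∀ (I : Ideal R) (d : D) (z : F), z ∈ I • (⊤ : Submodule R F) → d • z ∈ I • (⊤ : Submodule R F) :=
      fun I d z hz => by
        refine Submodule.smul_induction_on hz (fun a ha b _ => ?_) (fun a b ha hb => by rw [smul_add]; exact add_mem ha hb)
        rw [smul_comm]
        exact Submodule.smul_mem_smul ha trivial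
    have hwd : ∀ x, θ x = 0 → θ (g x) = 0 := fun x hx => hcolon _ <| by
      have h1 : φ x - r • x ∈ J' • (⊤ : Submodule R F) := by
        refine Submodule.smul_induction_on ((hker x).1 hx) (fun a ha b _ => ?_)
          (fun a b ha hb => by rw [map_add, smul_add, add_sub_add_comm]; exact add_mem ha hb)
        rw [map_smul, smul_comm r a, ← smul_sub]
        have := Submodule.smul_mem_smul (I := maximalIdeal R) ha (hr b)
        rw [← Submodule.mul_smul] at this
        exact Submodule.smul_mono hm le_rfl this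
      have := sub_mem h1 (hg x)
      rwa [sub_sub_cancel] at this
    have hadd : ∀ x y, θ (g (x + y)) = θ (g x) + θ (g y) := fun x y => by
      rw [← sub_eq_zero, ← map_add, ← map_sub]
      refine hcolon _ ?_
      have := sub_mem (add_mem (hg x) (hg y)) (hg (x + y))
      convert this using 1
      rw [map_add, smul_add r, smul_sub, smul_add t]
      abel
    have hsm : ∀ (d : D) x, θ (g (d • x)) = d • θ (g x) := fun d x => by
      rw [← sub_eq_zero, ← map_smul θ, ← map_sub]
      refine hcolon _ ?_
      have := sub_mem (hD J' d _ (hg x)) (hg (d • x))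
      convert this using 1
      rw [hφ, smul_sub d, smul_sub d, ← smul_comm r d x, ← smul_comm t d (g x), smul_sub t]
      abel
    let s := surjInv hsurj
    have hs : ∀ e, θ (s e) = e := surjInv_eq hsurj
    have hwd' : ∀ x y, θ x = θ y → θ (g x) = θ (g y) := fun x y h => by
      have h1 := hadd (x - y) y
      rw [sub_add_cancel, hwd (x - y) (by rw [map_sub, h, sub_self]), zero_add] at h1
      exact h1
    let ψ : E →ₗ[D] E :=
      { toFun := fun e => θ (g (s e))
        map_add' := fun a b => by rw [← hadd]; exact hwd' _ _ (by rw [map_add, hs, hs, hs])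
        map_smul' := fun d a => by
          rw [RingHom.id_apply, ← hsm]
          exact hwd' _ _ (by rw [map_smul, hs, hs]) }
    obtain ⟨c, hc⟩ := hE ψ
    obtain ⟨c', hc'⟩ := R.res_surjective c
    refine ih J' hJ'' ⟨r + t * c', fun x => ?_⟩
    have h0 : θ (g x - c' • x) = 0 := by
      rw [map_sub, hθ, hc', sub_eq_zero, ← hc]
      exact hwd' _ _ (hs _).symm
    have h1 : t • (g x - c' • x) ∈ J' • (⊤ : Submodule R F) := by
      have := Submodule.smul_mem_smul (I := Ideal.span {t}) (Ideal.mem_span_singleton_self t) ((hker _).1 h0)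
      rw [← Submodule.mul_smul] at this
      refine Submodule.smul_mono ?_ le_rfl this
      rw [mul_comm]
      exact le_trans (Ideal.mul_mono_right (by rwa [Ideal.span_le, Set.singleton_subset_iff])) hm
    have := add_mem (hg x) h1
    convert this using 1
    rw [add_smul, mul_smul, smul_sub]
    abel

end GrothLib.DefMod26
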